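import Groth.Agent.H1Falt.RestrGamma
import Groth.Agent.KFlatLib.Ring.DualizingFlat
import Groth.Agent.S1812

/-! `RΓ` commutes with flat base change. -/

set_option autoImplicit false
set_option linter.style.haveILetI false
set_option backward.isDefEq.respectTransparency false

universe u

open CategoryTheory CategoryTheory.Limits CategoryTheory.Pretriangulated
open scoped TensorProduct

attribute [local instance] HasDerivedCategory.standard

namespace Groth.Agent.H1GamBC

open Groth.Agent.H9Misc Groth.Agent.H9Misc.ExtCechTors Groth.Agent.RGammaD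

variable {A B : Type u} [CommRing A] [CommRing B] [Algebra A B]
  [PreservesFiniteLimits (ModuleCat.extendScalars.{u, u, u} (algebraMap A B))]

/-- Extension of scalars on complexes. -/
noncomputable abbrev extCx : DRing.Cx A ⥤ DRing.Cx B :=
  (ModuleCat.extendScalars.{u, u, u} (algebraMap A B)).mapHomologicalComplex (ComplexShape.up ℤ)

omit [PreservesFiniteLimits (ModuleCat.extendScalars.{u, u, u} (algebraMap A B))] in
lemma map_smul_id (f : A) (M : ModuleCat.{u} A) :
    (ModuleCat.extendScalars.{u, u, u} (algebraMap A B)).map (f • 𝟙 M) =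
      algebraMap A B f • 𝟙 ((ModuleCat.extendScalars.{u, u, u} (algebraMap A B)).obj M) := by
  letI : Module A B := Module.compHom B (algebraMap A B)
  refine ModuleCat.ExtendScalars.hom_ext fun x => ?_
  erw [ModuleCat.ExtendScalars.map_tmul]
  show (1 : B) ⊗ₜ[A] (f • x) = algebraMap A B f • ((1 : B) ⊗ₜ[A] x : ((ModuleCat.extendScalars.{u, u, u} (algebraMap A B)).obj M))
  erw [ModuleCat.ExtendScalars.smul_tmul]
  exact (TensorProduct.smul_tmul f (1 : B) x).symm

lemma loc_extCx_locCx (f : A) (K : DRing.Cx A) :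
    RlimSmul.Loc (algebraMap A B f) (DerivedCategory.Q.obj ((extCx (B := B)).obj ((DerCA.locCx (Submonoid.powers f)).obj K))) := by
  let X := (DerCA.locCx (Submonoid.powers f)).obj K
  haveI := KonLib.isIso_smul_locCx f K
  have h : algebraMap A B f • 𝟙 ((extCx (B := B)).obj X) = (extCx (B := B)).map (f • 𝟙 X) :=
    HomologicalComplex.hom_ext _ _ fun n => (map_smul_id f (X.X n)).symm
  show IsIso (algebraMap A B f • 𝟙 _)
  rw [← CategoryTheory.Functor.map_id, ← Functor.map_smul, h]
  infer_instance

lemma bijective_ext_step [IsNoetherianRing A] {I : Ideal A} {T : Dual.D B} (hT : TorsD (I.map (algebraMap A B)) T)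
    (a : Ideal A) {f : A} (hf : f ∈ I) (J : DRing.Cx A) (hJ : ∀ n, Injective (J.X n)) :
    Function.Bijective (fun ψ : T ⟶ DerivedCategory.Q.obj ((extCx (B := B)).obj ((gam (a ⊔ Ideal.span {f})).obj J)) =>
      ψ ≫ DerivedCategory.Q.map ((extCx (B := B)).map (inclLE le_sup_left J))) := by
  have hS := (stepSeq_shortExact a f J hJ).map_of_exact (extCx (B := B))
  have hTd := DerivedCategory.triangleOfSES_distinguished hS
  have hW := loc_extCx_locCx (B := B) f ((gam a).obj J)
  have hf' : algebraMap A B f ∈ I.map (algebraMap A B) := Ideal.mem_map_of_mem _ hf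
  refine ⟨fun x y h => sub_eq_zero.1 ?_, fun y => ?_⟩
  · obtain ⟨k, hk⟩ := Triangle.coyoneda_exact₂ _ (inv_rot_of_distTriang _ hTd) (x - y)
      (show (x - y) ≫ DerivedCategory.Q.map ((extCx (B := B)).map (inclLE le_sup_left J)) = 0 by
        rw [Preadditive.sub_comp, sub_eq_zero]; exact h)
    rw [hk, hom_eq_zero_of_torsD _ hT hf' (hW.shift (algebraMap A B f) (-1)) k]
    exact zero_comp
  · obtain ⟨k, hk⟩ := Triangle.coyoneda_exact₂ _ hTd y (hom_eq_zero_of_torsD _ hT hf' hW _)
    exact ⟨k, hk.symm⟩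

lemma bijective_ext_of_span [IsNoetherianRing A] {I : Ideal A} {T : Dual.D B} (hT : TorsD (I.map (algebraMap A B)) T)
    (J : DRing.Cx A) (hJ : ∀ n, Injective (J.X n)) :
    ∀ (s : Finset A), (∀ f ∈ s, f ∈ I) → ∀ (a : Ideal A), Ideal.span (s : Set A) = a →
      Function.Bijective (fun ψ : T ⟶ DerivedCategory.Q.obj ((extCx (B := B)).obj ((gam a).obj J)) =>
        ψ ≫ DerivedCategory.Q.map ((extCx (B := B)).map (incl a J))) := by
  classical
  intro s
  induction s using Finset.induction_on with
  | empty =>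
    intro _ a ha
    rw [Finset.coe_empty, Ideal.span_empty] at ha
    subst ha
    haveI : ∀ n, IsIso ((incl (⊥ : Ideal A) J).f n) := fun n =>
      (ConcreteCategory.isIso_iff_bijective _).2 ⟨Subtype.val_injective, fun x => ⟨⟨x, 1, fun c hc => by
        rw [pow_one, Ideal.mem_bot] at hc
        rw [hc, zero_smul]⟩, rfl⟩⟩
    haveI := HomologicalComplex.Hom.isIso_of_components (incl (⊥ : Ideal A) J)
    exact (asIso (DerivedCategory.Q.map ((extCx (B := B)).map (incl (⊥ : Ideal A) J)))).homToEquiv.bijective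
  | insert f s hfs ih =>
    intro hs a ha
    have ha' : Ideal.span (s : Set A) ⊔ Ideal.span {f} = a := by
      rw [← ha, Finset.coe_insert, Ideal.span_insert, sup_comm]
    subst ha'
    have h1 := bijective_ext_step hT (Ideal.span (s : Set A)) (hs f (Finset.mem_insert_self f s)) J hJ
    have h2 := ih (fun g hg => hs g (Finset.mem_insert_of_mem hg)) _ rfl
    convert h2.comp h1 using 1
    funext ψ
    exact ((Category.assoc _ _ _).trans (congrArg (ψ ≫ ·) ((DerivedCategory.Q.map_comp _ _).symm.trans
      (congrArg DerivedCategory.Q.map (((extCx (B := B)).map_comp _ _).symm.trans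
        (congrArg (extCx (B := B)).map (inclLE_incl le_sup_left J))))))).symm

/-- Extension of an object with torsion cohomology has torsion cohomology. -/
lemma torsD_ext {I : Ideal A} {K : Dual.D A} (h : TorsD I K) :
    TorsD (I.map (algebraMap A B)) ((ModuleCat.extendScalars.{u, u, u} (algebraMap A B)).mapDerivedCategory.obj K) := by
  intro i x
  obtain ⟨c⟩ := KFlatLib.exists_extendLEquiv (B := B) ((DerivedCategory.homologyFunctor (ModuleCat.{u} A) i).obj K)
  let e := ((KFlatLib.mapDCHomologyIso (ModuleCat.extendScalars.{u, u, u} (algebraMap A B)) i).app K).toLinearEquiv.trans c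
  have key : ∀ y, ∃ n : ℕ, ∀ b ∈ (I.map (algebraMap A B)) ^ n,
      b • (y : B ⊗[A] ((DerivedCategory.homologyFunctor (ModuleCat.{u} A) i).obj K)) = 0 := by
    intro y
    induction y using TensorProduct.induction_on with
    | zero => exact ⟨0, fun b _ => smul_zero b⟩
    | add y z hy hz =>
      obtain ⟨m, hm⟩ := hy
      obtain ⟨n, hn⟩ := hz
      exact ⟨max m n, fun b hb => by
        rw [smul_add, hm b (Ideal.pow_le_pow_right (le_max_left m n) hb),
          hn b (Ideal.pow_le_pow_right (le_max_right m n) hb), add_zero]⟩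
    | tmul b z =>
      obtain ⟨n, hn⟩ := h i z
      refine ⟨n, fun d hd => ?_⟩
      rw [← Ideal.map_pow] at hd
      induction hd using Submodule.span_induction with
      | mem d hd =>
        obtain ⟨a, ha, rfl⟩ := hd
        rw [algebraMap_smul, ← TensorProduct.tmul_smul]
        erw [hn a ha]
        exact TensorProduct.tmul_zero _ _
      | zero => exact zero_smul B _
      | add p q _ _ hp hq => rw [add_smul, hp, hq, add_zero]
      | smul r p _ hp => rw [smul_eq_mul, mul_smul, hp, smul_zero]
  obtain ⟨n, hn⟩ := key (e x)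
  exact ⟨n, fun d hd => e.injective (((map_smul e d x).trans (hn d hd)).trans (map_zero e).symm)⟩

/-- `RΓ` commutes with exact extension of scalars. -/
theorem exists_ext_iso [IsNoetherianRing A] [IsNoetherianRing B] (I : Ideal A) [DRing.HasRgammaI I]
    [DRing.HasRgammaI (I.map (algebraMap A B))] (K : Dual.D A) :
    Nonempty ((ModuleCat.extendScalars.{u, u, u} (algebraMap A B)).mapDerivedCategory.obj ((DRing.RgammaI I).obj K) ≅
      (DRing.RgammaI (I.map (algebraMap A B))).obj
        ((ModuleCat.extendScalars.{u, u, u} (algebraMap A B)).mapDerivedCategory.obj K)) := by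
  let F := (ModuleCat.extendScalars.{u, u, u} (algebraMap A B)).mapDerivedCategory
  let θ := (ModuleCat.extendScalars.{u, u, u} (algebraMap A B)).mapDerivedCategoryFactors
  obtain ⟨J, hJ, hinj, ⟨eJ⟩⟩ := DRingRHomCompl.exists_resolution K
  obtain ⟨e, he⟩ := exists_iso_gam I J
  obtain ⟨s, hs⟩ := IsNoetherian.noetherian I
  let β : F.obj ((DRing.RgammaI I).obj K) ≅ DerivedCategory.Q.obj ((extCx (B := B)).obj ((gam I).obj J)) :=
    F.mapIso ((DRing.RgammaI I).mapIso eJ ≪≫ e.symm) ≪≫ θ.app _
  let γ : F.obj K ≅ DerivedCategory.Q.obj ((extCx (B := B)).obj J) := F.mapIso eJ ≪≫ θ.app J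
  obtain ⟨i, -⟩ := exists_iso_of_universal (I.map (algebraMap A B)) (torsD_ext (torsD_RgammaI I K))
    (β.hom ≫ DerivedCategory.Q.map ((extCx (B := B)).map (incl I J)) ≫ γ.inv) fun T hT => by
      have h := bijective_ext_of_span (B := B) hT J hinj s (fun f hf => hs ▸ Ideal.subset_span hf) I hs
      exact Eq.mp (congrArg Function.Bijective (funext fun ψ => by
        show (((ψ ≫ β.hom) ≫ DerivedCategory.Q.map _) ≫ γ.inv) = _
        simp only [Category.assoc])) (γ.symm.homToEquiv.bijective.comp (h.comp β.homToEquiv.bijective))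
  exact ⟨i⟩

omit [PreservesFiniteLimits (ModuleCat.extendScalars.{u, u, u} (algebraMap A B))] in
/-- Extension of scalars is the tensor product, in a larger universe. -/
theorem exists_extendLEquiv' (M : ModuleCat.{u + 1} A) :
    Nonempty ((ModuleCat.extendScalars.{u, u, u + 1} (algebraMap A B)).obj M ≃ₗ[B] B ⊗[A] M) := by
  rename_i alg
  obtain ⟨φ, rfl⟩ : ∃ φ : A →+* B, φ.toAlgebra = alg := ⟨algebraMap A B, Algebra.algebra_ext _ _ fun _ => rfl⟩
  exact ⟨LinearEquiv.refl B _⟩

omit [PreservesFiniteLimits (ModuleCat.extendScalars.{u, u, u} (algebraMap A B))] in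
theorem nonempty_HDI_iso [IsNoetherianRing A] [IsNoetherianRing B] [Module.Flat A B]
    [DRing.HasLBaseChange (algebraMap A B)] (I : Ideal A) (K : Dual.D A) (i : ℤ) :
    Nonempty (Dual2.HDI B (I.map (algebraMap A B)) ((DRing.LBaseChange (algebraMap A B)).obj K) i ≅
      (ModuleCat.extendScalars (algebraMap A B)).obj (Dual2.HDI A I K i)) := by
  haveI := KFlatLib.hasLBase (algebraMap A B)
  obtain ⟨eL⟩ := KFlatLib.nonempty_LBaseChange_iso (algebraMap A B)
  obtain ⟨_, ⟨eM⟩⟩ := KFlatLib.exists_LBase_map_iso (B := B) K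
  haveI := H1Falt.hasRgammaI I
  haveI := H1Falt.hasRgammaI (I.map (algebraMap A B))
  obtain ⟨t⟩ := exists_ext_iso (B := B) I K
  obtain ⟨E₁⟩ := Groth.Agent.S1812.result A I (IsNoetherian.noetherian I) K i
  obtain ⟨E₂⟩ := Groth.Agent.S1812.result B (I.map (algebraMap A B)) (IsNoetherian.noetherian _)
    ((DRing.LBaseChange (algebraMap A B)).obj K) i
  let F := ModuleCat.extendScalars.{u, u, u} (algebraMap A B)
  let H := DerivedCategory.homologyFunctor (ModuleCat.{u} B) i
  obtain ⟨c⟩ := KFlatLib.exists_extendLEquiv (B := B)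
    ((DerivedCategory.homologyFunctor (ModuleCat.{u} A) i).obj ((DRing.RgammaI I).obj K))
  let g := E₂.symm.trans (((H.mapIso ((DRing.RgammaI _).mapIso (eL.app K ≪≫ eM)) ≪≫ H.mapIso t.symm ≪≫
    (KFlatLib.mapDCHomologyIso F i).app _).toLinearEquiv.trans c).trans (E₁.baseChange (A := B)))
  obtain ⟨d⟩ := exists_extendLEquiv' (B := B) (Dual2.HDI A I K i)
  exact ⟨(g.trans d.symm).toModuleIso⟩

end Groth.Agent.H1GamBC
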